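import Mathlib
import Cfsg.Prelude.Def_KGroupFacts

set_option autoImplicit false

/-! Universality of a presented covering group: if the generators of a presented group `P` mapping
onto `G` can be lifted to any stem extension of `G` so that the relators of `P` hold, then the kernel
of every stem extension of `G` is a homomorphic image of the kernel of `P → G`. -/

namespace Cfsg.Agent.Helper9.StemCover

open scoped commutatorElement

universe u v

section Univ

theorem inv_comm_of_comm {Γ : Type*} [Group Γ] {κ : Γ} (h : ∀ x, κ * x = x * κ) (x : Γ) :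
    κ⁻¹ * x = x * κ⁻¹ := by
  calc κ⁻¹ * x = κ⁻¹ * (x * κ) * κ⁻¹ := by group
    _ = κ⁻¹ * (κ * x) * κ⁻¹ := by rw [h x]
    _ = x * κ⁻¹ := by group

theorem comm_mul_left_central {Γ : Type*} [Group Γ] {κ a y : Γ} (h : ∀ x, κ * x = x * κ) :
    ⁅κ * a, y⁆ = ⁅a, y⁆ := by
  have hi := inv_comm_of_comm h
  calc ⁅κ * a, y⁆ = κ * (a * y * a⁻¹ * (κ⁻¹ * y⁻¹)) := by rw [commutatorElement_def]; group
    _ = κ * (a * y * a⁻¹ * (y⁻¹ * κ⁻¹)) := by rw [hi y⁻¹]
    _ = κ * (a * y * a⁻¹ * y⁻¹) * κ⁻¹ := by group
    _ = (a * y * a⁻¹ * y⁻¹) * κ * κ⁻¹ := by rw [h]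
    _ = ⁅a, y⁆ := by rw [commutatorElement_def]; group

theorem comm_mul_right_central {Γ : Type*} [Group Γ] {κ a y : Γ} (h : ∀ x, κ * x = x * κ) :
    ⁅a, κ * y⁆ = ⁅a, y⁆ := by
  rw [← commutatorElement_inv, comm_mul_left_central h, commutatorElement_inv]

variable {α : Type} {rels : Set (FreeGroup α)} {G : Type u} [Group G] {Γ : Type v} [Group Γ]

/-- The comparison of kernels. -/
theorem exists_ker_surjection (π : PresentedGroup rels →* G) (σ : Γ →* G)
    (hK : σ.ker ≤ Subgroup.center Γ) (hK' : σ.ker ≤ commutator Γ)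
    (t : α → Γ) (ht : ∀ a, σ (t a) = π (PresentedGroup.of a))
    (hπ : Function.Surjective π)
    (hrel : ∀ r ∈ rels, FreeGroup.lift t r = 1) :
    ∃ f : π.ker →* σ.ker, Function.Surjective f := by
  set θ : PresentedGroup rels →* Γ := PresentedGroup.toGroup hrel with hθ
  have hcomp : σ.comp θ = π := by
    apply PresentedGroup.ext
    intro a
    rw [MonoidHom.comp_apply, hθ, PresentedGroup.toGroup.of, ht]
  have hc : ∀ p, σ (θ p) = π p := fun p => DFunLike.congr_fun hcomp p
  -- every element is a product of an element of the kernel and an element of the range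
  have hdec : ∀ γ : Γ, ∃ κ ∈ σ.ker, ∃ p, γ = κ * θ p := by
    intro γ
    obtain ⟨p, hp⟩ := hπ (σ γ)
    refine ⟨γ * (θ p)⁻¹, ?_, p, by group⟩
    rw [MonoidHom.mem_ker, map_mul, map_inv, hc, hp, mul_inv_cancel]
  have hcen : ∀ κ ∈ σ.ker, ∀ γ : Γ, κ * γ = γ * κ := by
    intro κ hκ γ
    exact ((Subgroup.mem_center_iff.1 (hK hκ)) γ).symm
  -- commutators lie in the range
  have hcomm : commutator Γ ≤ θ.range := by
    rw [commutator_eq_closure, Subgroup.closure_le]
    rintro _ ⟨a, b, rfl⟩
    obtain ⟨κ₁, h₁, p₁, rfl⟩ := hdec a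
    obtain ⟨κ₂, h₂, p₂, rfl⟩ := hdec b
    refine ⟨⁅p₁, p₂⁆, ?_⟩
    rw [map_commutatorElement, comm_mul_left_central (hcen κ₁ h₁),
      comm_mul_right_central (hcen κ₂ h₂)]
  have hsurj : Function.Surjective θ := by
    intro γ
    obtain ⟨κ, hκ, p, rfl⟩ := hdec γ
    obtain ⟨q, hq⟩ := hcomm (hK' hκ)
    exact ⟨q * p, by rw [map_mul, hq]⟩
  refine ⟨(θ.comp π.ker.subtype).codRestrict σ.ker ?_, ?_⟩
  · intro p
    rw [MonoidHom.mem_ker, MonoidHom.comp_apply, hc]
    exact p.2
  · rintro ⟨κ, hκ⟩
    obtain ⟨p, hp⟩ := hsurj κ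
    have hpk : p ∈ π.ker := by
      rw [MonoidHom.mem_ker, ← hc, hp]
      exact hκ
    refine ⟨⟨p, hpk⟩, ?_⟩
    apply Subtype.ext
    exact hp

end Univ

section Main

universe w

variable {α : Type} {rels : Set (FreeGroup α)} {G : Type u} [Group G] {A : Type w} [CommGroup A]

theorem map_commutator_le {H K : Type*} [Group H] [Group K] (f : H →* K) :
    (commutator H).map f ≤ commutator K := by
  rw [commutator_def, commutator_def, Subgroup.map_commutator]
  exact Subgroup.commutator_mono le_top le_top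

/-- A finite perfect-kernel presented cover to which generators lift gives the Schur multiplier. -/
theorem hasSchurMultiplier_of_cover [Finite (PresentedGroup rels)]
    (π : PresentedGroup rels →* G) (hπ : Function.Surjective π)
    (hcen : π.ker ≤ Subgroup.center (PresentedGroup rels))
    (hcomm : π.ker ≤ commutator (PresentedGroup rels))
    (e : π.ker ≃* A)
    (hlift : ∀ (Γ : Type u) [Group Γ] [Finite Γ] (σ : Γ →* G), Cfsg.IsStemExtension σ →
      ∃ t : α → Γ, (∀ a, σ (t a) = π (PresentedGroup.of a)) ∧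
        ∀ r ∈ rels, FreeGroup.lift t r = 1) :
    Cfsg.HasSchurMultiplier G A := by
  constructor
  · let E : ULift.{u} (PresentedGroup rels) ≃* PresentedGroup rels := MulEquiv.ulift
    let σ : ULift.{u} (PresentedGroup rels) →* G := π.comp E.toMonoidHom
    have hσ : ∀ x, σ x = π (E x) := fun x => rfl
    have hker : ∀ x, x ∈ σ.ker ↔ E x ∈ π.ker := by
      intro x
      rw [MonoidHom.mem_ker, MonoidHom.mem_ker, hσ]
    refine ⟨ULift.{u} (PresentedGroup rels), inferInstance, inferInstance, σ, ⟨?_, ?_, ?_⟩, ⟨?_⟩⟩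
    · exact hπ.comp E.surjective
    · intro x hx
      rw [Subgroup.mem_center_iff]
      intro y
      apply E.injective
      rw [map_mul, map_mul]
      exact (Subgroup.mem_center_iff.1 (hcen ((hker x).1 hx))) (E y)
    · intro x hx
      have h1 : E x ∈ commutator (PresentedGroup rels) := hcomm ((hker x).1 hx)
      have h2 : E.symm (E x) ∈ (commutator (PresentedGroup rels)).map E.symm.toMonoidHom :=
        ⟨E x, h1, rfl⟩
      rw [E.symm_apply_apply] at h2
      exact map_commutator_le _ h2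
    · have h3 : σ.ker = π.ker.map E.symm.toMonoidHom := by
        ext x
        rw [hker]
        constructor
        · intro h
          exact ⟨E x, h, E.symm_apply_apply x⟩
        · rintro ⟨y, hy, rfl⟩
          show E (E.symm y) ∈ π.ker
          rw [E.apply_symm_apply]
          exact hy
      exact (MulEquiv.subgroupCongr h3).trans ((E.symm.subgroupMap π.ker).symm.trans e)
  · intro Γ _ _ σ hσ
    obtain ⟨t, ht, hrel⟩ := hlift Γ σ hσ
    obtain ⟨f, hf⟩ := exists_ker_surjection π σ hσ.2.1 hσ.2.2 t ht hπ hrel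
    exact ⟨f.comp e.symm.toMonoidHom, hf.comp e.symm.surjective⟩

end Main

end Cfsg.Agent.Helper9.StemCover
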