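import Mathlib

set_option autoImplicit false

/-! The field with eight elements, as triples of bits: `b0 + b1 * x + b2 * x²` with `x³ = x + 1`. -/

namespace Cfsg.Agent.Helper9

/-- The field with eight elements. -/
structure F8 : Type where
  b0 : Bool
  b1 : Bool
  b2 : Bool
deriving DecidableEq, Fintype

namespace F8

/-- Addition. -/
def add (a b : F8) : F8 := ⟨xor a.b0 b.b0, xor a.b1 b.b1, xor a.b2 b.b2⟩

/-- Multiplication. -/
def mul (a b : F8) : F8 :=
  let c0 := a.b0 && b.b0
  let c1 := xor (a.b0 && b.b1) (a.b1 && b.b0)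
  let c2 := xor (xor (a.b0 && b.b2) (a.b1 && b.b1)) (a.b2 && b.b0)
  let c3 := xor (a.b1 && b.b2) (a.b2 && b.b1)
  let c4 := a.b2 && b.b2
  ⟨xor c0 c3, xor (xor c1 c3) c4, xor c2 c4⟩

/-- Inverse: the sixth power. -/
def inv (a : F8) : F8 :=
  let a2 := mul a a
  let a4 := mul a2 a2
  mul a4 a2

instance : Zero F8 := ⟨⟨false, false, false⟩⟩

instance : One F8 := ⟨⟨true, false, false⟩⟩

instance : Add F8 := ⟨add⟩

instance : Mul F8 := ⟨mul⟩

instance : Neg F8 := ⟨id⟩

instance : Inv F8 := ⟨inv⟩

instance : Field F8 where
  add_assoc := by decide +kernel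
  zero_add := by decide +kernel
  add_zero := by decide +kernel
  add_comm := by decide +kernel
  neg_add_cancel := by decide +kernel
  mul_assoc := by decide +kernel
  one_mul := by decide +kernel
  mul_one := by decide +kernel
  zero_mul := by decide +kernel
  mul_zero := by decide +kernel
  left_distrib := by decide +kernel
  right_distrib := by decide +kernel
  mul_comm := by decide +kernel
  exists_pair_ne := ⟨0, 1, by decide⟩
  mul_inv_cancel := by decide +kernel
  inv_zero := by decide +kernel
  nsmul := nsmulRec
  zsmul := zsmulRec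
  npow := npowRec
  zpow := zpowRec
  nnqsmul := _
  qsmul := _

theorem card : Fintype.card F8 = 8 := by decide +kernel

/-- The element with the given bits. -/
def ofNat (n : ℕ) : F8 := ⟨n.testBit 0, n.testBit 1, n.testBit 2⟩

end F8

end Cfsg.Agent.Helper9
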