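import Mathlib
import Cfsg.Prelude.Def_Sz
import Cfsg.Agent.Lib.Helper9.Sz8.Simple
import Cfsg.Agent.Lib.Helper9.Sz8.Vec4F8
import Cfsg.Agent.Lib.Helper9.TC2Fin
import Cfsg.Agent.Lib.Helper2.SzBridge
import Cfsg.Agent.Lib.Helper2.SzCard

set_option autoImplicit false
set_option maxRecDepth 1000000

/-! The presented group of `Sz8Simple` is isomorphic to the Suzuki group over any field with eight
elements. -/

namespace Cfsg.Agent.Helper9.Sz8Iso

open Matrix Cfsg Cfsg.Agent.Helper9 Cfsg.Agent.Helper9.TC2 Cfsg.Agent.Helper9.TCData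
  Cfsg.Spor Cfsg.Agent.Helper9.Vec4F8 Cfsg.Agent.Helper9.Sz8Simple

/-- Elements of the model field by their bits. -/
abbrev n8 (n : ℕ) : F8 := F8.ofNat n

/-- The matrices of the two generators. -/
def g4 : Fin 2 → M4 := ![
  ⟨⟨n8 4, n8 5, n8 0, n8 7⟩, ⟨n8 3, n8 4, n8 2, n8 2⟩, ⟨n8 2, n8 4, n8 5, n8 5⟩,
    ⟨n8 1, n8 7, n8 0, n8 4⟩⟩,
  ⟨⟨n8 4, n8 5, n8 7, n8 2⟩, ⟨n8 5, n8 6, n8 6, n8 4⟩, ⟨n8 7, n8 6, n8 3, n8 6⟩,
    ⟨n8 2, n8 4, n8 6, n8 3⟩⟩]

/-- The matrices of the inverses of the two generators. -/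
def gi4 : Fin 2 → M4 := ![
  ⟨⟨n8 4, n8 5, n8 2, n8 7⟩, ⟨n8 0, n8 5, n8 2, n8 0⟩, ⟨n8 7, n8 4, n8 4, n8 5⟩,
    ⟨n8 1, n8 2, n8 3, n8 4⟩⟩,
  ⟨⟨n8 3, n8 6, n8 4, n8 2⟩, ⟨n8 6, n8 3, n8 6, n8 7⟩, ⟨n8 4, n8 6, n8 6, n8 5⟩,
    ⟨n8 2, n8 7, n8 5, n8 4⟩⟩]

theorem g4_inv : ∀ s : Fin 2, ∀ j : Fin 4, (g4 s).app ((gi4 s).app (bas j)) = bas j := by
  decide +kernel

theorem gi4_inv : ∀ s : Fin 2, ∀ j : Fin 4, (gi4 s).app ((g4 s).app (bas j)) = bas j := by
  decide +kernel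

/-- The matrices of the generators, over the model field. -/
def U4 : Fin 2 → GL (Fin 4) F8 := unitOf g4 gi4 g4_inv gi4_inv

theorem rel_extra : ∀ r ∈ Sz8B0.extra, ∀ j : Fin 4, ev g4 gi4 r.toWord (bas j) = bas j := by
  decide +kernel

theorem rels8 : ∀ r ∈ relSet Sz8B0.edges Sz8B0.extra, FreeGroup.lift U4 r = 1 := by
  intro r hr
  rcases hr with hr | hr
  · obtain ⟨x, hx, -⟩ := hr
    exact absurd hx (by simp [coxNodes, Sz8B0.edges])
  · exact lift_eq_one g4 gi4 g4_inv gi4_inv _ (rel_extra r hr)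

/-- The form, over the model field. -/
def W8 : Matrix (Fin 4) (Fin 4) F8 := Cfsg.Agent.Helper2.Sz.Wm

theorem g4_form : ∀ s : Fin 2, (g4 s).toMatᵀ * W8 * (g4 s).toMat = W8 := by
  decide +kernel

theorem g4_star : ∀ s : Fin 2,
    Cfsg.Lie.star4 (g4 s).toMat = (g4 s).toMat.map (fun x => x ^ 4) := by
  decide +kernel

theorem g4_entry : (g4 0).toMat 0 1 ≠ 0 := by decide +kernel

theorem g4_entry1 : (g4 1).toMat 0 1 ≠ 0 := by decide +kernel

section Generic

universe u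

variable {F : Type u} [Field F] [Fintype F] (hF : Fintype.card F = 8)

/-- A ring isomorphism from the model. -/
noncomputable def eF : F8 ≃+* F := FiniteField.ringEquivOfCardEq (F8.card.trans hF.symm)

include hF in
theorem hF' : Fintype.card F = 2 ^ (2 * 1 + 1) := hF.trans (by norm_num)

/-- The change of field on matrices. -/
noncomputable def mapM : Matrix (Fin 4) (Fin 4) F8 →+* Matrix (Fin 4) (Fin 4) F :=
  (eF hF).toRingHom.mapMatrix

theorem mapM_apply (M : Matrix (Fin 4) (Fin 4) F8) (i j : Fin 4) :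
    mapM hF M i j = eF hF (M i j) := rfl

theorem mapM_W8 : mapM hF W8 = (Cfsg.Agent.Helper2.Sz.Wm : Matrix (Fin 4) (Fin 4) F) := by
  ext i j
  rw [mapM_apply]
  fin_cases i <;> fin_cases j <;> simp [W8, Cfsg.Agent.Helper2.Sz.Wm]

theorem form_map (s : Fin 2) :
    (mapM hF (g4 s).toMat)ᵀ * (Cfsg.Agent.Helper2.Sz.Wm : Matrix (Fin 4) (Fin 4) F) *
      mapM hF (g4 s).toMat = Cfsg.Agent.Helper2.Sz.Wm := by
  have h1 : (g4 s).toMatᵀ * W8 * (g4 s).toMat = W8 := g4_form s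
  have h2 : (mapM hF (g4 s).toMat)ᵀ = mapM hF ((g4 s).toMatᵀ) := by
    ext i j
    rfl
  rw [← mapM_W8 hF, h2, ← map_mul, ← map_mul, h1]

theorem star_map (s : Fin 2) :
    Cfsg.Lie.star4 (mapM hF (g4 s).toMat) = (mapM hF (g4 s).toMat).map (fun x => x ^ 4) := by
  ext p r
  have h := congrFun (congrFun (g4_star s) p) r
  simp only [Cfsg.Lie.star4, Matrix.of_apply, Matrix.map_apply] at h ⊢
  simp only [mapM_apply]
  rw [← map_mul, ← map_mul, ← map_sub, ← map_pow, h]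

/-- The change of field on the general linear groups. -/
noncomputable def glMap : GL (Fin 4) F8 →* GL (Fin 4) F :=
  Units.map (mapM hF).toMonoidHom

theorem glMap_val (g : GL (Fin 4) F8) :
    ((glMap hF g : GL (Fin 4) F) : Matrix (Fin 4) (Fin 4) F) = mapM hF g.val := rfl

theorem glMap_mem (s : Fin 2) : glMap hF (U4 s) ∈ Cfsg.Lie.Sz F 4 := by
  apply Subgroup.subset_closure
  refine ⟨?_, ?_⟩
  · rw [Cfsg.Agent.Helper2.Sz.mem_Sp4_iff]
    exact form_map hF s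
  · exact star_map hF s

/-- The generators, as elements of the Suzuki group. -/
noncomputable def gS (s : Fin 2) : Cfsg.Lie.Sz F 4 := ⟨glMap hF (U4 s), glMap_mem hF s⟩

theorem hcomp : (Cfsg.Lie.Sz F 4).subtype.comp (FreeGroup.lift (gS hF)) =
    (glMap hF).comp (FreeGroup.lift U4) := by
  apply FreeGroup.ext_hom
  intro s
  simp only [MonoidHom.comp_apply, FreeGroup.lift_apply_of]
  rfl

theorem lift_gS_eq_one (r : FreeGroup (Fin 2)) (h : FreeGroup.lift U4 r = 1) :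
    FreeGroup.lift (gS hF) r = 1 := by
  apply Subtype.ext
  have h1 := DFunLike.congr_fun (hcomp hF) r
  simp only [MonoidHom.comp_apply] at h1
  rw [h, map_one] at h1
  exact h1

theorem rels : ∀ r ∈ relSet Sz8B0.edges Sz8B0.extra, FreeGroup.lift (gS hF) r = 1 :=
  fun r hr => lift_gS_eq_one hF r (rels8 r hr)

/-- The homomorphism to the Suzuki group. -/
noncomputable def theta : PSz8 →* Cfsg.Lie.Sz F 4 := PresentedGroup.toGroup (rels hF)

theorem theta_of (s : Fin 2) : theta hF (PresentedGroup.of s) = gS hF s :=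
  PresentedGroup.toGroup.of (rels hF)

theorem theta_mk (r : FreeGroup (Fin 2)) :
    theta hF (PresentedGroup.mk _ r) = FreeGroup.lift (gS hF) r := rfl

theorem gS_ne_one (s : Fin 2) (h : (g4 s).toMat 0 1 ≠ 0) : gS hF s ≠ 1 := by
  intro h1
  have h2 : mapM hF (g4 s).toMat = 1 :=
    congrArg (fun g : Cfsg.Lie.Sz F 4 => ((g : GL (Fin 4) F) : Matrix (Fin 4) (Fin 4) F)) h1
  have h3 := congrFun (congrFun h2 0) 1
  rw [mapM_apply, Matrix.one_apply_ne (by decide)] at h3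
  exact h ((map_eq_zero_iff _ (eF hF).injective).1 h3)

theorem theta_injective : Function.Injective (theta hF) := by
  have := sz8_simple.1
  refine injective_of_simple (theta hF) (PresentedGroup.of 0) ?_
  rw [theta_of]
  exact gS_ne_one hF 0 g4_entry

include hF in
theorem card_Sz : Nat.card (Cfsg.Lie.Sz F 4) = 29120 := by
  obtain ⟨S⟩ := Cfsg.Agent.Helper2.Sz.nonempty_szData (m := 1) (hF' hF)
  obtain ⟨e⟩ := Cfsg.Agent.Helper2.Sz.nonempty_bridge (F := F) (m := 1) le_rfl (hF' hF)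
  have h1 := S.card_Sz le_rfl (hF' hF)
  have h2 : Nat.card (Cfsg.Lie.Sz F (2 ^ (1 + 1))) = Nat.card (Cfsg.Sz F 1) :=
    (Nat.card_congr e.toEquiv).symm
  have h3 : Nat.card (Cfsg.Lie.Sz F 4) = Nat.card (Cfsg.Lie.Sz F (2 ^ (1 + 1))) := rfl
  rw [h3, h2, h1]
  norm_num

theorem theta_bijective : Function.Bijective (theta hF) := by
  have : Finite PSz8 := hub.1
  apply (theta_injective hF).bijective_of_nat_card_le
  rw [card_Sz hF, sz8_simple.2]

/-- The isomorphism. -/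
noncomputable def iso : PSz8 ≃* Cfsg.Lie.Sz F 4 :=
  MulEquiv.ofBijective (theta hF) (theta_bijective hF)

end Generic

end Cfsg.Agent.Helper9.Sz8Iso
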