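import Mathlib
import Cfsg.Agent.Lib.Helper9.Sz8.Iso
import Cfsg.Agent.Lib.Helper9.Sz8.StemCover
import Cfsg.Agent.Lib.Helper9.TC2Word
import Cfsg.Agent.Lib.Helper9.TCData.Sz8C0.Cert
import Cfsg.Agent.Lib.Helper20.SchurExp3

set_option autoImplicit false
set_option maxRecDepth 1000000

/-! The fourfold cover of the Suzuki group `Sz(8)` as a presented group: its order, its kernel
(a four-group), and the lifting of its generators to any stem extension of `Sz(8)`. -/

namespace Cfsg.Agent.Helper9.Sz8Cover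

open Cfsg Cfsg.Agent.Helper9 Cfsg.Agent.Helper9.TC2 Cfsg.Agent.Helper9.TCData
  Cfsg.Spor Cfsg.Agent.Helper9.Sz8Simple Cfsg.Agent.Helper9.Sz8Iso
open scoped commutatorElement

/-! ### The relators -/

/-- The free group. -/
abbrev FG : Type := FreeGroup (Fin 2)

/-- The first generator. -/
def u : FG := FreeGroup.of 0
/-- The second generator. -/
def v : FG := FreeGroup.of 1
/-- A commutator word for `u`. -/
def w1 : FG := v⁻¹ * u * v * u⁻¹ * v * u * v⁻¹ * u⁻¹
/-- A commutator word for `v ^ 5`. -/
def w2 : FG := v⁻¹ * u⁻¹ * v * u⁻¹ * v * u * v⁻¹ * u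
/-- The relators of the simple group. -/
def R : Fin 4 → FG := ![(u * v⁻¹ * u) ^ 2, (u⁻¹ * v) ^ 4, (u * v * u * v⁻¹ * u * v⁻¹ * u) ^ 7,
  (u * u * v⁻¹ * u * v⁻¹ * u * v * v) ^ 5]
/-- Commutators of words. -/
def cm (r x : FG) : FG := r * x * r⁻¹ * x⁻¹

theorem extraC_eq : Sz8C0.extra = [u ^ 5, v ^ 7, w1 ^ 16 * u⁻¹, w2 ^ 8 * (v ^ 5)⁻¹,
    cm (R 0) u, cm (R 0) v, cm (R 1) u, cm (R 1) v, cm (R 2) u, cm (R 2) v, cm (R 3) u,
    cm (R 3) v] := by
  decide +kernel

theorem extraG_eq : Sz8B0.extra = Sz8C0.extra ++ [R 0, R 1, R 2, R 3] := by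
  decide +kernel

/-! ### The covering group and its map to the simple group -/

/-- The relators of the covering group. -/
abbrev relsC : Set FG := relSet Sz8C0.edges Sz8C0.extra

/-- The relators of the simple group. -/
abbrev relsG : Set FG := relSet Sz8B0.edges Sz8B0.extra

/-- The covering group. -/
abbrev PC : Type := PresentedGroup relsC

theorem mem_relsC {r : FG} (h : r ∈ Sz8C0.extra) : r ∈ relsC := Or.inr h

theorem mem_relsG {r : FG} (h : r ∈ Sz8B0.extra) : r ∈ relsG := Or.inr h

theorem relsC_cases {r : FG} (h : r ∈ relsC) : r ∈ Sz8C0.extra := by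
  rcases h with h | h
  · obtain ⟨x, hx, -⟩ := h
    exact absurd hx (by simp [coxNodes, Sz8C0.edges])
  · exact h

theorem relsC_sub {r : FG} (h : r ∈ relsC) : r ∈ relsG := by
  apply mem_relsG
  rw [extraG_eq]
  exact List.mem_append_left _ (relsC_cases h)

theorem R_mem (j : Fin 4) : R j ∈ relsG := by
  apply mem_relsG
  rw [extraG_eq]
  apply List.mem_append_right
  fin_cases j <;> simp

theorem lift_of_eq_mk {rels : Set FG} (r : FG) :
    FreeGroup.lift (PresentedGroup.of (rels := rels)) r = PresentedGroup.mk rels r := by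
  have h : FreeGroup.lift (PresentedGroup.of (rels := rels)) = PresentedGroup.mk rels := by
    apply FreeGroup.ext_hom
    intro a
    rw [FreeGroup.lift_apply_of]
    rfl
  rw [h]

/-- The map from the covering group to the simple group. -/
noncomputable def nu : PC →* PSz8 :=
  PresentedGroup.toGroup (f := PresentedGroup.of) (by
    intro r hr
    rw [lift_of_eq_mk]
    exact PresentedGroup.one_of_mem (relsC_sub hr))

theorem nu_of (a : Fin 2) : nu (PresentedGroup.of a) = PresentedGroup.of a :=
  PresentedGroup.toGroup.of _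

theorem nu_mk (r : FG) : nu (PresentedGroup.mk relsC r) = PresentedGroup.mk relsG r := by
  have h : nu.comp (PresentedGroup.mk relsC) = PresentedGroup.mk relsG := by
    apply FreeGroup.ext_hom
    intro a
    rw [MonoidHom.comp_apply]
    exact nu_of a
  exact DFunLike.congr_fun h r

theorem nu_surjective : Function.Surjective nu := by
  intro g
  obtain ⟨r, rfl⟩ := PresentedGroup.mk_surjective relsG g
  exact ⟨PresentedGroup.mk relsC r, nu_mk r⟩

/-- The images of the relators of the simple group. -/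
noncomputable def z (j : Fin 4) : PC := PresentedGroup.mk relsC (R j)

theorem nu_z (j : Fin 4) : nu (z j) = 1 := by
  rw [z, nu_mk]
  exact PresentedGroup.one_of_mem (R_mem j)

theorem cm_mem (j : Fin 4) (a : Fin 2) : cm (R j) (FreeGroup.of a) ∈ relsC := by
  apply mem_relsC
  rw [extraC_eq]
  fin_cases j <;> fin_cases a <;> simp [u, v]

theorem z_comm_of (j : Fin 4) (a : Fin 2) :
    z j * PresentedGroup.of a = PresentedGroup.of a * z j := by
  have h := PresentedGroup.one_of_mem (cm_mem j a)
  rw [cm, map_mul, map_mul, map_mul, map_inv, map_inv] at h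
  have h2 : PresentedGroup.mk relsC (FreeGroup.of a) = PresentedGroup.of a := rfl
  rw [h2] at h
  change z j * PresentedGroup.of a * (z j)⁻¹ * (PresentedGroup.of a)⁻¹ = 1 at h
  calc z j * PresentedGroup.of a
      = (z j * PresentedGroup.of a * (z j)⁻¹ * (PresentedGroup.of a)⁻¹) *
        (PresentedGroup.of a * z j) := by group
    _ = PresentedGroup.of a * z j := by rw [h, one_mul]

theorem central_of_comm_of (g : PC)
    (h : ∀ a : Fin 2, g * PresentedGroup.of a = PresentedGroup.of a * g) :
    g ∈ Subgroup.center PC := by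
  rw [Subgroup.mem_center_iff]
  intro x
  have hx : x ∈ Subgroup.closure (Set.range (PresentedGroup.of (rels := relsC))) := by
    rw [PresentedGroup.closure_range_of]
    exact Subgroup.mem_top x
  induction hx using Subgroup.closure_induction with
  | mem y hy =>
    obtain ⟨a, rfl⟩ := hy
    exact (h a).symm
  | one => rw [one_mul, mul_one]
  | mul x y _ _ hx hy => rw [mul_assoc, hy, ← mul_assoc, hx, mul_assoc]
  | inv x _ hx =>
    calc x⁻¹ * g = x⁻¹ * (g * x) * x⁻¹ := by group
      _ = x⁻¹ * (x * g) * x⁻¹ := by rw [hx]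
      _ = g * x⁻¹ := by group

theorem z_central (j : Fin 4) : z j ∈ Subgroup.center PC :=
  central_of_comm_of (z j) (z_comm_of j)

/-- The subgroup generated by the images of the relators. -/
noncomputable def Z : Subgroup PC := Subgroup.closure (Set.range z)

theorem Z_le_center : Z ≤ Subgroup.center PC := by
  rw [Z, Subgroup.closure_le]
  rintro _ ⟨j, rfl⟩
  exact z_central j

instance Z_normal : Z.Normal := by
  constructor
  intro n hn g
  have h := Subgroup.mem_center_iff.1 (Z_le_center hn) g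
  have e : g * n * g⁻¹ = n := by
    rw [h]
    group
  rw [e]
  exact hn

theorem Z_le_ker : Z ≤ nu.ker := by
  rw [Z, Subgroup.closure_le]
  rintro _ ⟨j, rfl⟩
  exact nu_z j

/-- The inverse map, modulo `Z`. -/
noncomputable def psi : PSz8 →* PC ⧸ Z :=
  PresentedGroup.toGroup (f := fun a => ((PresentedGroup.of a : PC) : PC ⧸ Z)) (by
    intro r hr
    have h1 : FreeGroup.lift (fun a => ((PresentedGroup.of a : PC) : PC ⧸ Z)) r =
        ((PresentedGroup.mk relsC r : PC) : PC ⧸ Z) := by
      have h : FreeGroup.lift (fun a => ((PresentedGroup.of a : PC) : PC ⧸ Z)) =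
          (QuotientGroup.mk' Z).comp (PresentedGroup.mk relsC) := by
        apply FreeGroup.ext_hom
        intro a
        rw [FreeGroup.lift_apply_of]
        rfl
      rw [h]
      rfl
    rw [h1]
    rcases hr with hr | hr
    · obtain ⟨x, hx, -⟩ := hr
      exact absurd hx (by simp [coxNodes, Sz8B0.edges])
    · have hr' : r ∈ Sz8B0.extra := hr
      rw [extraG_eq, List.mem_append] at hr'
      rcases hr' with hr' | hr'
      · rw [PresentedGroup.one_of_mem (mem_relsC hr')]
        rfl
      · rw [QuotientGroup.eq_one_iff]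
        apply Subgroup.subset_closure
        simp only [List.mem_cons, List.not_mem_nil, or_false] at hr'
        rcases hr' with rfl | rfl | rfl | rfl
        · exact ⟨0, rfl⟩
        · exact ⟨1, rfl⟩
        · exact ⟨2, rfl⟩
        · exact ⟨3, rfl⟩)

theorem psi_comp : psi.comp nu = QuotientGroup.mk' Z := by
  apply PresentedGroup.ext
  intro a
  rw [MonoidHom.comp_apply, nu_of]
  exact PresentedGroup.toGroup.of _

theorem ker_eq : nu.ker = Z := by
  apply le_antisymm _ Z_le_ker
  intro g hg
  have h1 : psi.comp nu g = 1 := by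
    rw [MonoidHom.comp_apply, MonoidHom.mem_ker.1 hg, map_one]
  rw [psi_comp] at h1
  exact (QuotientGroup.eq_one_iff g).1 h1

theorem ker_le_center : nu.ker ≤ Subgroup.center PC := ker_eq ▸ Z_le_center

/-! ### The order of the covering group -/

/-- The image of the second generator. -/
noncomputable def vbar : PC := PresentedGroup.of 1

/-- The image of the first generator. -/
noncomputable def ubar : PC := PresentedGroup.of 0

theorem mk_v : PresentedGroup.mk relsC v = vbar := rfl

theorem mk_u : PresentedGroup.mk relsC u = ubar := rfl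

theorem vbar_pow : vbar ^ 7 = 1 := by
  have h : v ^ 7 ∈ relsC := mem_relsC (by rw [extraC_eq]; simp)
  have h1 := PresentedGroup.one_of_mem h
  rwa [map_pow] at h1

theorem ubar_pow : ubar ^ 5 = 1 := by
  have h : u ^ 5 ∈ relsC := mem_relsC (by rw [extraC_eq]; simp)
  have h1 := PresentedGroup.one_of_mem h
  rwa [map_pow] at h1

theorem of_ne_one (a : Fin 2) : (PresentedGroup.of a : PSz8) ≠ 1 := by
  intro h
  have h1 := theta_of (F := F8) F8.card a
  rw [h, map_one] at h1
  have h2 : (g4 a).toMat 0 1 ≠ 0 := by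
    fin_cases a
    · exact g4_entry
    · exact g4_entry1
  exact gS_ne_one F8.card a h2 h1.symm

theorem nu_vbar_ne : nu vbar ≠ 1 := by
  rw [vbar, nu_of]
  exact of_ne_one 1

theorem orderOf_nu_vbar : orderOf (nu vbar) = 7 := by
  have : Fact (Nat.Prime 7) := ⟨by norm_num⟩
  apply orderOf_eq_prime _ nu_vbar_ne
  rw [← map_pow, vbar_pow, map_one]

theorem orderOf_vbar : orderOf vbar = 7 := by
  have : Fact (Nat.Prime 7) := ⟨by norm_num⟩
  apply orderOf_eq_prime vbar_pow
  intro h
  exact nu_vbar_ne (by rw [h, map_one])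

/-- The subgroup of the certificate. -/
abbrev H : Subgroup PC := coxH Sz8C0.edges Sz8C0.extra {s | s ∈ Sz8C0.sgensL}

theorem H_eq : H = Subgroup.zpowers vbar := by
  have hS : ({s | s ∈ Sz8C0.sgensL} : Set FG) = {v} := by
    ext s
    simp only [Sz8C0.sgensL, List.mem_singleton, Set.mem_ofPred_eq, Set.mem_singleton_iff]
    rfl
  unfold H coxH
  rw [hS, ← Subgroup.zpowers_eq_closure, MonoidHom.map_zpowers]
  rfl

theorem card_H : Nat.card H = 7 := by
  rw [H_eq, Nat.card_zpowers, orderOf_vbar]

theorem index_H : H.index = 16640 := by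
  have h := Sz8C0.cert.index_eq
  rw [Sz8C0.cert_n] at h
  exact h

instance finite_PC : Finite PC := by
  have hfin : Finite H := Nat.finite_of_card_ne_zero (by rw [card_H]; norm_num)
  exact (Sz8C0.cert.card_le hfin (le_of_eq card_H)).1

theorem card_PC : Nat.card PC = 116480 := by
  rw [← Subgroup.card_mul_index H, card_H, index_H]

theorem card_ker : Nat.card nu.ker = 4 := by
  have h1 := Subgroup.card_eq_card_quotient_mul_card_subgroup nu.ker
  have h2 : Nat.card (PC ⧸ nu.ker) = Nat.card PSz8 :=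
    Nat.card_congr (QuotientGroup.quotientKerEquivOfSurjective nu nu_surjective).toEquiv
  rw [h2, card_PC, sz8_simple.2] at h1
  omega

/-! ### The kernel has exponent two -/

theorem H_inf_ker (g : PC) (hg : g ∈ H) (hk : g ∈ nu.ker) : g = 1 := by
  rw [H_eq] at hg
  obtain ⟨k, rfl⟩ := hg
  rw [MonoidHom.mem_ker, map_zpow] at hk
  have h1 : (orderOf (nu vbar) : ℤ) ∣ k := orderOf_dvd_iff_zpow_eq_one.2 hk
  rw [orderOf_nu_vbar] at h1
  have h2 : (orderOf vbar : ℤ) ∣ k := by rw [orderOf_vbar]; exact h1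
  exact orderOf_dvd_iff_zpow_eq_one.1 h2

theorem trace_sq : ∀ j : Fin 4,
    runT Sz8C0.cert.D (colWord Sz8C0.cert.cols (R j * R j)) 0 = 0 := by
  decide +kernel

theorem z_sq (j : Fin 4) : z j * z j = 1 := by
  apply H_inf_ker
  · have h1 := (Sz8C0.cert.phi_mk_apply (R j * R j) Sz8C0.cert.hn0).1
    rw [trace_sq j] at h1
    have h2 := Sz8C0.cert.phi_zero_iff.1 h1
    rw [map_mul] at h2
    exact h2
  · rw [MonoidHom.mem_ker, map_mul, nu_z, one_mul]

theorem Z_sq : ∀ g ∈ Z, g * g = 1 := by
  intro g hg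
  have hc : ∀ x ∈ Z, ∀ y : PC, x * y = y * x := fun x hx y =>
    ((Subgroup.mem_center_iff.1 (Z_le_center hx)) y).symm
  unfold Z at hg
  induction hg using Subgroup.closure_induction with
  | mem x hx =>
    obtain ⟨j, rfl⟩ := hx
    exact z_sq j
  | one => rw [one_mul]
  | mul x y hx hy ihx ihy =>
    have hxZ : x ∈ Z := hx
    calc x * y * (x * y) = x * (y * x) * y := by group
      _ = x * (x * y) * y := by rw [hc x hxZ y]
      _ = (x * x) * (y * y) := by group
      _ = 1 := by rw [ihx, ihy, one_mul]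
  | inv x _ ihx =>
    calc x⁻¹ * x⁻¹ = (x * x)⁻¹ := by group
      _ = 1 := by rw [ihx, inv_one]

theorem ker_sq : ∀ g ∈ nu.ker, g * g = 1 := by
  rw [ker_eq]
  exact Z_sq

instance ker_klein : IsKleinFour nu.ker where
  card_four := card_ker
  exponent_two := by
    have h1 : Monoid.exponent nu.ker ∣ 2 := by
      apply Monoid.exponent_dvd_of_forall_pow_eq_one
      intro g
      apply Subtype.ext
      rw [pow_two]
      exact ker_sq g.1 g.2
    have h2 : Monoid.exponent nu.ker ≠ 1 := by
      intro h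
      have h3 : Subsingleton nu.ker := Monoid.exp_eq_one_iff.1 h
      have h4 : Nat.card nu.ker = 1 := Nat.card_unique
      rw [card_ker] at h4
      omega
    have h5 := Nat.le_of_dvd (by norm_num) h1
    have h6 : Monoid.exponent nu.ker ≠ 0 := by
      intro h
      rw [h] at h1
      omega
    omega

/-- The kernel is a four-group. -/
theorem nonempty_ker_equiv : Nonempty (nu.ker ≃* Multiplicative (ZMod 2 × ZMod 2)) :=
  IsKleinFour.nonempty_mulEquiv

/-! ### The covering group is perfect -/

theorem w1_mem : w1 ^ 16 * u⁻¹ ∈ relsC := mem_relsC (by rw [extraC_eq]; simp)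

theorem w2_mem : w2 ^ 8 * (v ^ 5)⁻¹ ∈ relsC := mem_relsC (by rw [extraC_eq]; simp)

theorem commutator_eq_top : commutator PC = ⊤ := by
  rw [← Abelianization.ker_of]
  set φ : PC →* Abelianization PC := Abelianization.of with hφ
  have hu : φ ubar = 1 := by
    have h1 := PresentedGroup.one_of_mem w1_mem
    rw [map_mul, map_pow, map_inv, mk_u] at h1
    have h2 : ubar = PresentedGroup.mk relsC w1 ^ 16 := by
      calc ubar = (PresentedGroup.mk relsC w1 ^ 16 * ubar⁻¹)⁻¹ * PresentedGroup.mk relsC w1 ^ 16 := by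
            group
        _ = PresentedGroup.mk relsC w1 ^ 16 := by rw [h1, inv_one, one_mul]
    have h3 : φ (PresentedGroup.mk relsC w1) = 1 := by
      simp only [w1, map_mul, map_inv, mk_u, mk_v]
      have := mul_comm (φ ubar) (φ vbar)
      calc (φ vbar)⁻¹ * φ ubar * φ vbar * (φ ubar)⁻¹ * φ vbar * φ ubar * (φ vbar)⁻¹ * (φ ubar)⁻¹
          = ((φ vbar)⁻¹ * φ vbar) * (φ ubar * (φ ubar)⁻¹) * (φ vbar * (φ vbar)⁻¹) *
            (φ ubar * (φ ubar)⁻¹) := by
            simp only [mul_comm, mul_left_comm, mul_assoc]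
        _ = 1 := by simp
    rw [h2, map_pow, h3, one_pow]
  have hv : φ vbar = 1 := by
    have h1 := PresentedGroup.one_of_mem w2_mem
    rw [map_mul, map_pow, map_inv, map_pow, mk_v] at h1
    have h2 : vbar ^ 5 = PresentedGroup.mk relsC w2 ^ 8 := by
      calc vbar ^ 5 = (PresentedGroup.mk relsC w2 ^ 8 * (vbar ^ 5)⁻¹)⁻¹ *
            PresentedGroup.mk relsC w2 ^ 8 := by group
        _ = PresentedGroup.mk relsC w2 ^ 8 := by rw [h1, inv_one, one_mul]
    have h3 : φ (PresentedGroup.mk relsC w2) = 1 := by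
      simp only [w2, map_mul, map_inv, mk_u, mk_v]
      calc (φ vbar)⁻¹ * (φ ubar)⁻¹ * φ vbar * (φ ubar)⁻¹ * φ vbar * φ ubar * (φ vbar)⁻¹ * φ ubar
          = ((φ vbar)⁻¹ * φ vbar) * ((φ ubar)⁻¹ * φ ubar) * (φ vbar * (φ vbar)⁻¹) *
            ((φ ubar)⁻¹ * φ ubar) := by
            simp only [mul_comm, mul_left_comm, mul_assoc]
        _ = 1 := by simp
    have h5 : φ vbar ^ 5 = 1 := by rw [← map_pow, h2, map_pow, h3, one_pow]
    have h7 : φ vbar ^ 7 = 1 := by rw [← map_pow, vbar_pow, map_one]
    calc φ vbar = (φ vbar ^ 5) ^ 3 * ((φ vbar ^ 7) ^ 2)⁻¹ := by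
          rw [← pow_mul, ← pow_mul]; group
      _ = 1 := by rw [h5, h7]; simp
  rw [eq_top_iff, ← PresentedGroup.closure_range_of, Subgroup.closure_le]
  rintro _ ⟨a, rfl⟩
  rw [SetLike.mem_coe, MonoidHom.mem_ker]
  fin_cases a
  · exact hu
  · exact hv

end Cfsg.Agent.Helper9.Sz8Cover
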