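import Mathlib
import Cfsg.Agent.Lib.Helper9.Sz8.Cover

set_option autoImplicit false
set_option maxRecDepth 1000000

/-! The generators of the fourfold cover of `Sz(8)` lift to every stem extension of `Sz(8)`. -/

namespace Cfsg.Agent.Helper9.Sz8Lift

open Cfsg Cfsg.Agent.Helper9 Cfsg.Agent.Helper9.TC2 Cfsg.Agent.Helper9.TCData
  Cfsg.Spor Cfsg.Agent.Helper9.Sz8Simple Cfsg.Agent.Helper9.Sz8Iso Cfsg.Agent.Helper9.Sz8Cover
  Cfsg.Agent.Helper9.Vec4F8
open scoped commutatorElement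

/-! ### Two identities in the simple group -/

theorem ev_w1 : ∀ j : Fin 4, ev g4 gi4 (w1 * u⁻¹).toWord (bas j) = bas j := by decide +kernel

theorem ev_w2 : ∀ j : Fin 4, ev g4 gi4 (w2 * (v ^ 5)⁻¹).toWord (bas j) = bas j := by
  decide +kernel

theorem mkG_eq_one_of_ev (r : FG) (h : ∀ j : Fin 4, ev g4 gi4 r.toWord (bas j) = bas j) :
    PresentedGroup.mk relsG r = 1 := by
  have h1 : FreeGroup.lift U4 r = 1 := lift_eq_one g4 gi4 g4_inv gi4_inv r h
  have h2 := lift_gS_eq_one (F := F8) F8.card r h1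
  rw [← theta_mk] at h2
  have h3 : theta (F := F8) F8.card (PresentedGroup.mk relsG r) = theta (F := F8) F8.card 1 := by
    rw [h2, map_one]
  exact theta_injective (F := F8) F8.card h3

theorem nu_w1 : nu (PresentedGroup.mk relsC w1) = nu ubar := by
  have h := mkG_eq_one_of_ev _ ev_w1
  rw [map_mul, map_inv] at h
  rw [nu_mk, ← mk_u, nu_mk]
  exact mul_inv_eq_one.1 h

theorem nu_w2 : nu (PresentedGroup.mk relsC w2) = nu vbar ^ 5 := by
  have h := mkG_eq_one_of_ev _ ev_w2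
  rw [map_mul, map_inv, map_pow] at h
  rw [nu_mk, ← mk_v, nu_mk]
  exact mul_inv_eq_one.1 h

/-! ### The relators hold for suitable lifts -/

section Abstract

variable {Γ : Type*} [Group Γ]

/-- A pair of elements as a family. -/
def tt (a b : Γ) : Fin 2 → Γ := ![a, b]

theorem lift_u (a b : Γ) : FreeGroup.lift (tt a b) u = a := by
  rw [u, FreeGroup.lift_apply_of]
  rfl

theorem lift_v (a b : Γ) : FreeGroup.lift (tt a b) v = b := by
  rw [v, FreeGroup.lift_apply_of]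
  rfl

theorem lift_of (a b : Γ) (x : Fin 2) : FreeGroup.lift (tt a b) (FreeGroup.of x) = tt a b x :=
  FreeGroup.lift_apply_of

theorem pow_of_central {K : Subgroup Γ} (hK : K ≤ Subgroup.center Γ) {c t κ : Γ} (hκ : κ ∈ K)
    (hc : c = t * κ) (n : ℕ) (hn : κ ^ n = 1) : c ^ n = t ^ n := by
  have hcomm : Commute t κ := ((Subgroup.mem_center_iff.1 (hK hκ)) t)
  rw [hc, hcomm.mul_pow, hn, mul_one]

theorem lift_rels (K : Subgroup Γ) (hK : K ≤ Subgroup.center Γ) (h8 : ∀ κ ∈ K, κ ^ 8 = 1)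
    (tu tv : Γ) (h5 : tu ^ 5 = 1) (h7 : tv ^ 7 = 1)
    (hw1 : tu⁻¹ * FreeGroup.lift (tt tu tv) w1 ∈ K)
    (hw2 : (tv ^ 5)⁻¹ * FreeGroup.lift (tt tu tv) w2 ∈ K)
    (hR : ∀ j, FreeGroup.lift (tt tu tv) (R j) ∈ K) :
    ∀ r ∈ relsC, FreeGroup.lift (tt tu tv) r = 1 := by
  have hcm : ∀ (j : Fin 4) (x : FG),
      FreeGroup.lift (tt tu tv) (cm (R j) x) = 1 := by
    intro j x
    rw [cm, map_mul, map_mul, map_mul, map_inv, map_inv]
    have h := (Subgroup.mem_center_iff.1 (hK (hR j))) (FreeGroup.lift (tt tu tv) x)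
    rw [← h]
    group
  intro r hr
  have hr' := relsC_cases hr
  rw [extraC_eq] at hr'
  simp only [List.mem_cons, List.not_mem_nil, or_false] at hr'
  rcases hr' with rfl | rfl | rfl | rfl | rfl | rfl | rfl | rfl | rfl | rfl | rfl | rfl
  · rw [map_pow, lift_u, h5]
  · rw [map_pow, lift_v, h7]
  · rw [map_mul, map_pow, map_inv, lift_u]
    have h16 : (tu⁻¹ * FreeGroup.lift (tt tu tv) w1) ^ 16 = 1 := by
      have := h8 _ hw1
      rw [show 16 = 8 * 2 from rfl, pow_mul, this, one_pow]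
    have hc : FreeGroup.lift (tt tu tv) w1 = tu * (tu⁻¹ * FreeGroup.lift (tt tu tv) w1) := by group
    rw [pow_of_central hK hw1 hc 16 h16]
    have : tu ^ 16 = tu := by
      calc tu ^ 16 = (tu ^ 5) ^ 3 * tu := by rw [← pow_mul, ← pow_succ]
        _ = tu := by rw [h5, one_pow, one_mul]
    rw [this, mul_inv_cancel]
  · rw [map_mul, map_pow, map_inv, map_pow, lift_v]
    have hc : FreeGroup.lift (tt tu tv) w2 = tv ^ 5 * ((tv ^ 5)⁻¹ * FreeGroup.lift (tt tu tv) w2) := by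
      group
    rw [pow_of_central hK hw2 hc 8 (h8 _ hw2)]
    have : (tv ^ 5) ^ 8 = tv ^ 5 := by
      calc (tv ^ 5) ^ 8 = (tv ^ 7) ^ 5 * tv ^ 5 := by rw [← pow_mul, ← pow_mul, ← pow_add]
        _ = tv ^ 5 := by rw [h7, one_pow, one_mul]
    rw [this, mul_inv_cancel]
  all_goals exact hcm _ _

end Abstract

/-! ### Lifting to a stem extension -/

theorem dvd_eight_of_sq_dvd : ∀ e < 171, e ^ 2 ∣ 29120 → e ∣ 8 := by decide +kernel

theorem pow_eq_one_of_sq_dvd {Γ : Type*} [Group Γ] [Finite Γ] (Z : Subgroup Γ)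
    (hZ : Z ≤ Subgroup.center Γ) (hZ' : Z ≤ commutator Γ) (n : ℕ)
    (hn : ∀ e : ℕ, e ^ 2 ∣ Z.index → e ∣ n) : ∀ κ ∈ Z, κ ^ n = 1 := by
  letI instC : CommGroup Z := { (inferInstance : Group Z) with
    mul_comm := fun a b => Subtype.ext ((Subgroup.mem_center_iff.1 (hZ b.2)) a.1) }
  have hexp := Cfsg.Agent.Helper20.exponent_sq_dvd_index Z hZ hZ' (A := Z) (MulEquiv.refl _)
  have h1 := hn _ hexp
  have h2 := Monoid.exponent_dvd_iff_forall_pow_eq_one.1 h1
  intro κ hκ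
  have h3 := congrArg Subtype.val (h2 ⟨κ, hκ⟩)
  exact h3

section Lift

universe u

variable {F : Type u} [Field F] [Fintype F] (hF : Fintype.card F = 8)

/-- The map from the covering group to the Suzuki group. -/
noncomputable def pi : PC →* Cfsg.Lie.Sz F 4 := (iso hF).toMonoidHom.comp nu

theorem pi_apply (g : PC) : pi hF g = iso hF (nu g) := rfl

theorem pi_surjective : Function.Surjective (pi hF) :=
  (iso hF).surjective.comp nu_surjective

theorem pi_ker : (pi hF).ker = nu.ker := by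
  ext g
  rw [MonoidHom.mem_ker, MonoidHom.mem_ker, pi_apply]
  exact (iso hF).map_eq_one_iff

theorem pi_eq_iff (g h : PC) : pi hF g = pi hF h ↔ nu g = nu h := by
  rw [pi_apply, pi_apply]
  exact (iso hF).injective.eq_iff

theorem exists_lift {Γ : Type u} [Group Γ] [Finite Γ] (σ : Γ →* Cfsg.Lie.Sz F 4)
    (hσ : Cfsg.IsStemExtension σ) :
    ∃ t : Fin 2 → Γ, (∀ a, σ (t a) = pi hF (PresentedGroup.of a)) ∧
      ∀ r ∈ relsC, FreeGroup.lift t r = 1 := by
  obtain ⟨hs, hK, hK'⟩ := hσ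
  -- the exponent of the kernel
  have hcardG : Nat.card (Cfsg.Lie.Sz F 4) = 29120 := card_Sz hF
  have hidx : σ.ker.index = 29120 := by
    rw [Subgroup.index_ker, MonoidHom.range_eq_top.mpr hs, Subgroup.card_top, hcardG]
  have h8 : ∀ κ ∈ σ.ker, κ ^ 8 = 1 := by
    apply pow_eq_one_of_sq_dvd σ.ker hK hK' 8
    intro e he
    rw [hidx] at he
    apply dvd_eight_of_sq_dvd _ _ he
    by_contra hlt
    have h1 : 171 ≤ e := by omega
    have h2 : 171 ^ 2 ≤ e ^ 2 := Nat.pow_le_pow_left h1 2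
    have h3 := Nat.le_of_dvd (by norm_num) he
    omega
  -- the lifts
  obtain ⟨u₀, hu₀⟩ := hs (pi hF ubar)
  obtain ⟨v₀, hv₀⟩ := hs (pi hF vbar)
  have hpu : pi hF ubar ^ 5 = 1 := by rw [← map_pow, ubar_pow, map_one]
  have hpv : pi hF vbar ^ 7 = 1 := by rw [← map_pow, vbar_pow, map_one]
  have hσu : σ (u₀ ^ 16) = pi hF ubar := by
    rw [map_pow, hu₀]
    calc pi hF ubar ^ 16 = (pi hF ubar ^ 5) ^ 3 * pi hF ubar := by rw [← pow_mul, ← pow_succ]
      _ = pi hF ubar := by rw [hpu, one_pow, one_mul]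
  have hσv : σ (v₀ ^ 8) = pi hF vbar := by
    rw [map_pow, hv₀]
    calc pi hF vbar ^ 8 = pi hF vbar ^ 7 * pi hF vbar := by rw [← pow_succ]
      _ = pi hF vbar := by rw [hpv, one_mul]
  have ht : ∀ a, σ (tt (u₀ ^ 16) (v₀ ^ 8) a) = pi hF (PresentedGroup.of a) := by
    intro a
    fin_cases a
    · exact hσu
    · exact hσv
  have hcomp : ∀ r : FG, σ (FreeGroup.lift (tt (u₀ ^ 16) (v₀ ^ 8)) r) =
      pi hF (PresentedGroup.mk relsC r) := by
    have h : σ.comp (FreeGroup.lift (tt (u₀ ^ 16) (v₀ ^ 8))) =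
        (pi hF).comp (PresentedGroup.mk relsC) := by
      apply FreeGroup.ext_hom
      intro a
      rw [MonoidHom.comp_apply, MonoidHom.comp_apply, FreeGroup.lift_apply_of]
      exact ht a
    exact fun r => DFunLike.congr_fun h r
  refine ⟨tt (u₀ ^ 16) (v₀ ^ 8), ht, ?_⟩
  apply lift_rels σ.ker hK h8
  · have h1 : u₀ ^ 5 ∈ σ.ker := by rw [MonoidHom.mem_ker, map_pow, hu₀, hpu]
    calc (u₀ ^ 16) ^ 5 = ((u₀ ^ 5) ^ 8) ^ 2 := by rw [← pow_mul, ← pow_mul, ← pow_mul]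
      _ = 1 := by rw [h8 _ h1, one_pow]
  · have h1 : v₀ ^ 7 ∈ σ.ker := by rw [MonoidHom.mem_ker, map_pow, hv₀, hpv]
    calc (v₀ ^ 8) ^ 7 = (v₀ ^ 7) ^ 8 := by rw [← pow_mul, ← pow_mul]
      _ = 1 := h8 _ h1
  · rw [MonoidHom.mem_ker, map_mul, map_inv, hcomp, hσu, inv_mul_eq_one, pi_eq_iff]
    exact nu_w1.symm
  · rw [MonoidHom.mem_ker, map_mul, map_inv, map_pow, hcomp, hσv, inv_mul_eq_one, ← map_pow,
      pi_eq_iff, map_pow]
    exact nu_w2.symm
  · intro j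
    rw [MonoidHom.mem_ker, hcomp, pi_apply]
    have : nu (PresentedGroup.mk relsC (R j)) = 1 := nu_z j
    rw [this, map_one]

end Lift

end Cfsg.Agent.Helper9.Sz8Lift
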